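import Groth.Agent.H28.Hirz.Euler
import Groth.Agent.H28.Bezout.Pair
import Groth.Agent.PlaneCurveCoh.Coh
import Groth.Agent.H9Misc.HypCoh
import Groth.Agent.GrpOmega.Section
import Groth.Agent.KExact.DiagCodim
import Groth.Agent.SeesawX.Glue
import Groth.Agent.S5020
import Groth.Agent.S5976
import Groth.Agent.S9370
import Groth.Agent.S1488
import Groth.Agent.S2768
import Groth.Agent.S4039

/-!
# Euler characteristics of the sheaves of forms on a smooth hypersurface

The recursions of the twisted Euler and conormal sequences, with the values on `O(t)`.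
-/

set_option autoImplicit false
set_option linter.style.haveILetI false
set_option linter.unusedSectionVars false
set_option linter.overlappingInstances false
set_option backward.isDefEq.respectTransparency false
set_option backward.isDefEq.respectTransparency.types false
set_option maxHeartbeats 1000000

universe u

open CategoryTheory CategoryTheory.Limits AlgebraicGeometry TopologicalSpace Opposite

noncomputable section

namespace Groth.Agent.H28.Hirz

open Groth.Agent Groth.Agent.H23.PicMul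

attribute [local instance] MvPolynomial.gradedAlgebra

theorem rank_of_iso {X : Scheme.{u}} {M M' : X.Modules} (e : M ≅ M') {r : ℕ}
    (h : FlatMod.IsFinLocFreeOfRank r M) : FlatMod.IsFinLocFreeOfRank r M' := fun x => by
  obtain ⟨U, hx, ⟨f⟩⟩ := h x
  exact ⟨U, hx, ⟨(Scheme.Modules.restrictFunctor U.ι).mapIso e.symm ≪≫ f⟩⟩

theorem cl_L_pullback {X Y : Scheme.{u}} (f : Y ⟶ X) {M : X.Modules} (hM : FlatMod.IsFinLocFree M) (i : ℕ) :
    PicF.cl (ExtBase.L ((Scheme.Modules.pullback f).obj M) i) = PicF.pullCl f (PicF.cl (ExtBase.L M i)) := by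
  obtain ⟨e⟩ := ExtSh.nonempty_iso_L (SeesawX.isFinLocFree_pullback f hM)
    (Synt29.ExtPowPull.isExtPow_pullback f (QCoh.isQCoh_of_isFinLocFree hM) (ExtSh.isExtPow_L i hM))
  exact cl_eq_iff.2 ⟨e⟩

variable {k : Type u} [Field k]

/-- Euler characteristics on projective space. -/
theorem euler_proj (N : ℕ) (hN : 0 < N) (t : ℤ) :
    Curv2.euler k (CohB1.ProjSpace N k) (Twist.twistProjSpace N k t) = Ring.choose (t + N) N := by
  haveI := Bezout.isLN (k := k) (n := N)
  haveI : (CohB1.ProjSpace N k).IsSeparated := AmpleVan.isSeparated_of_proper (A := k)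
  haveI : AlgebraicGeometry.IsNoetherian (CohB1.ProjSpace N k) := CurveCohLib.isNoetherian_of_proper (k := k)
  rw [← S12640.euler_twist k N t (fun h => by omega)]
  refine Euler.euler_eq_sum k _ (N + 1) fun i hi => ?_
  refine Snapper.subsingleton_HH_of_dim_lt (N + 1) ⊤ ?_ _ (QCoh.isQCoh_of_isFinLocFree (lf_inv (KPn.inv_tw k N t)))
    (fun _ _ => trivial) i hi
  exact lt_of_le_of_lt ((Topology.IsInducing.subtypeVal).topologicalKrullDim_le.trans Bezout.dim_le)
    (by exact_mod_cast Nat.lt_succ_self N)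

variable {n a : ℕ} (G : LefPen.Form (n + 1) k a)
  [hs : SmoothOfRelativeDimension n ((LefPen.hypIdeal G).subschemeι ≫ CohB1.ProjSpace.toSpec (n + 1) k)]

theorem form_ne_zero : G ≠ 0 := by
  intro hQ
  have hb : LefPen.hypIdeal G = ⊥ := by
    refine Scheme.IdealSheafData.ext_of_iSup_eq_top (fun i => LefPenLib.chartAff i)
      LefPenLib.iSup_chart fun i => ?_
    rw [LefPenLib.hypIdeal_chart, LefPenLib.dehom_eq, hQ, ZeroMemClass.coe_zero, map_zero, map_zero,
      Ideal.span_singleton_eq_bot.2 rfl]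
    rfl
  haveI := (Scheme.isIso_subschemeι_iff_eq_bot _).2 hb
  haveI : SmoothOfRelativeDimension n (CohB1.ProjSpace.toSpec (n + 1) k) := by
    haveI : SmoothOfRelativeDimension 0 (inv (LefPen.hypIdeal G).subschemeι) := inferInstance
    have h2 : SmoothOfRelativeDimension (0 + n) (inv (LefPen.hypIdeal G).subschemeι ≫
        (LefPen.hypIdeal G).subschemeι ≫ CohB1.ProjSpace.toSpec (n + 1) k) := inferInstance
    rwa [IsIso.inv_hom_id_assoc, zero_add] at h2
  haveI := LefPenLib.smoothRelDim_toSpec (m := n + 1) (k := k)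
  haveI := LefPenLib.isIntegral_ps (m := n + 1) (k := k)
  obtain ⟨x⟩ : Nonempty (CohB1.ProjSpace (n + 1) k) := inferInstance
  have := (S2768.result n (CohB1.ProjSpace.toSpec (n + 1) k) x).symm.trans
    (S2768.result (n + 1) (CohB1.ProjSpace.toSpec (n + 1) k) x)
  norm_cast at this
  omega

variable [(LefPen.hypIdeal G).subscheme.Over (Spec (CommRingCat.of k))]
  (hover : (LefPen.hypIdeal G).subscheme ↘ Spec (CommRingCat.of k) =
    (LefPen.hypIdeal G).subschemeι ≫ CohB1.ProjSpace.toSpec (n + 1) k)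

/-- The class of `O(t)` on the hypersurface. -/
abbrev twc (t : ℤ) : PicF.Cl (LefPen.hypIdeal G).subscheme :=
  PicF.pullCl (LefPen.hypIdeal G).subschemeι (Synt29.PnEuler.tw (n + 1) k t)

theorem twc_add (s t : ℤ) : twc G s * twc G t = twc G (s + t) := by
  rw [twc, twc, ← pullCl_mul, Synt29.PnEuler.tw_add]

theorem twc_zero : twc G 0 = 1 := by rw [twc, Synt29.PnEuler.tw_zero, pullCl_one]

/-- The restriction of the sheaf of differentials of projective space. -/
abbrev OmP : (LefPen.hypIdeal G).subscheme.Modules :=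
  (Scheme.Modules.pullback (LefPen.hypIdeal G).subschemeι).obj (Omega.sheaf (CohB1.ProjSpace.toSpec (n + 1) k))

/-- The sheaf of differentials of the hypersurface. -/
abbrev OmZ : (LefPen.hypIdeal G).subscheme.Modules :=
  Omega.sheaf ((LefPen.hypIdeal G).subschemeι ≫ CohB1.ProjSpace.toSpec (n + 1) k)

include hover in
theorem isProper_hyp : IsProper ((LefPen.hypIdeal G).subscheme ↘ Spec (CommRingCat.of k)) := by
  haveI : IsProper (CohB1.ProjSpace.toSpec (n + 1) k) := PnCoh.Chow.isProper_toSpec.{u} (n + 1) k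
  rw [hover]
  infer_instance

include hover in
theorem subsingleton_HH {M : (LefPen.hypIdeal G).subscheme.Modules} (hM : Coh.IsQCoh M) (i : ℕ) (hi : n + 1 ≤ i) :
    Subsingleton (Coh.HH (LefPen.hypIdeal G).subscheme M i) := by
  haveI := isProper_hyp G hover
  haveI : (LefPen.hypIdeal G).subscheme.IsSeparated := AmpleVan.isSeparated_of_proper (A := k)
  haveI : AlgebraicGeometry.IsNoetherian (LefPen.hypIdeal G).subscheme := CurveCohLib.isNoetherian_of_proper (k := k)
  refine Snapper.subsingleton_HH_of_dim_lt (n + 1) ⊤ ?_ _ hM (fun _ _ => trivial) i hi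
  refine lt_of_le_of_lt (Topology.IsInducing.subtypeVal).topologicalKrullDim_le ?_
  let f := (LefPen.hypIdeal G).subschemeι ≫ CohB1.ProjSpace.toSpec (n + 1) k
  haveI : Smooth f := SmoothOfRelativeDimension.smooth n f
  haveI : LocallyOfFiniteType f := inferInstance
  refine lt_of_le_of_lt (b := ((n : ℕ∞) : WithBot ℕ∞)) ?_ (by exact_mod_cast Nat.lt_succ_self n)
  rw [VarDim.topologicalKrullDim_eq_iSup_deg f]
  refine iSup_le fun x => ?_
  have h1 := FibDim.rd_le_fibreDimAt f (specializes_refl x) rfl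
  rw [S2768.result n f x] at h1
  have h3 : (VarDim.deg f x : Cardinal) = FibDim.rd f x := by
    rw [FibDim.rd_eq_rdeg, ← VarDim.tdeg_eq_rdeg f x, ← VarDim.deg_eq_tdeg f x]
  rw [show VarDim.deg f x = FibDim.rd f x by exact_mod_cast h3]
  exact h1

include hover in
theorem E_eq_sum {M : (LefPen.hypIdeal G).subscheme.Modules} (hM : Coh.IsQCoh M) :
    E k (PicF.cl M) = ∑ q ∈ Finset.range (n + 1),
      (-1 : ℤ) ^ q * (Module.finrank k (Coh.HH (LefPen.hypIdeal G).subscheme M q) : ℤ) := by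
  rw [E_cl]
  exact Euler.euler_eq_sum k M (n + 1) fun i hi => subsingleton_HH G hover hM i hi

include hover in
/-- `χ(O_Z(t))`. -/
theorem E_twc (t : ℤ) :
    E k (twc G t) = Ring.choose (t + (n + 1 : ℕ)) (n + 1) - Ring.choose (t - a + (n + 1 : ℕ)) (n + 1) := by
  obtain ⟨S, hS, ⟨e₁⟩, ⟨e₂⟩, ⟨e₃⟩, h₃, -⟩ := H9Misc.HypCoh.exists_ses n a rfl (LefPen.hypIdeal G)
    (PlaneCurveCoh.idealMod_hyp_iso G (form_ne_zero G)) t
  haveI : AlgebraicGeometry.IsNoetherian (CohB1.ProjSpace (n + 1) k) := CurveCohLib.isNoetherian_of_proper (k := k)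
  have h₁ : Coh.IsCoh S.X₁ := SheafHomX.isCoh_of_iso e₁.symm (H9Misc.HypCoh.isCoh_O _)
  have h₂ : Coh.IsCoh S.X₂ := SheafHomX.isCoh_of_iso e₂.symm (H9Misc.HypCoh.isCoh_O _)
  have hadd := CurveCohLib.euler_additive (k := k) hS h₁ h₂ h₃
  rw [CurveCohLib.euler_congr e₁, CurveCohLib.euler_congr e₂, CurveCohLib.euler_congr e₃] at hadd
  simp only [H9Misc.HypCoh.O] at hadd
  rw [euler_proj (n + 1) n.succ_pos, euler_proj (n + 1) n.succ_pos] at hadd
  have he : E k (twc G t) = Curv2.euler k (CohB1.ProjSpace (n + 1) k)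
      (CohB1.tensorMod (ClSub.quotMod (LefPen.hypIdeal G)) (Twist.twistProjSpace (n + 1) k t)) :=
    finsum_congr fun q => by
      obtain ⟨el⟩ := PlaneCurveCoh.exists_linearEquiv_closed (LefPen.hypIdeal G).subschemeι k hover.symm
        (ProjUPX.isQCoh_of_isInvertible (KPn.inv_tw k (n + 1) t)) q
      exact congrArg (fun m : ℕ => (-1 : ℤ) ^ q * (m : ℤ)) el.finrank_eq
  rw [he]
  linarith

theorem isInvertible_twc (t : ℤ) :
    ∃ V : (LefPen.hypIdeal G).subscheme.Modules, PicF.IsInvertible V ∧ PicF.cl V = twc G t :=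
  ⟨_, PicClLib.isInvertible_pullback _ (KPn.inv_tw k (n + 1) t), rfl⟩

include hover in
/-- The restricted Euler sequence in Euler characteristics. -/
theorem euler_rel (p : ℕ) (t : ℤ) :
    E k (twc G t * PicF.cl (ExtBase.L (OmP G) (p + 1))) + E k (twc G t * PicF.cl (ExtBase.L (OmP G) p)) =
      ((n + 2).choose (p + 1) : ℤ) * E k (twc G (t - (p + 1))) := by
  haveI := isProper_hyp G hover
  haveI : IsProper (CohB1.ProjSpace.toSpec (n + 1) k) := PnCoh.Chow.isProper_toSpec.{u} (n + 1) k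
  have hΩ := Synt29.PnEuler.isFinLocFree_of_rank (Synt29.PnEuler.rank_omega (n + 1) k)
  obtain ⟨S, hS, hK1, hO1, hS3, ⟨eK⟩, ⟨eF⟩⟩ := Synt29.PnEuler.exists_taut_ses (n + 1) k
  obtain ⟨T, hT, h1, h2, h3⟩ := Synt29.PnEuler.exists_ses_of_rank_one hS hK1 hO1 p
  rw [Synt29.PnEuler.cl_lam (n + 1) k eK hK1] at h1
  rw [Synt29.PnEuler.cl_lam (n + 1) k eK hK1, hS3] at h3
  obtain ⟨N, hN, ⟨eN⟩⟩ := Synt29.PnEuler.exists_lam_free (n + 1) k eF (p + 1)
  obtain ⟨e2⟩ := cl_eq_iff.1 h2
  have hX₁ : FlatMod.IsFinLocFree T.X₁ := by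
    obtain ⟨e⟩ := cl_eq_iff.1 (h1.trans (cl_tensor (Twist.twistProjSpace (n + 1) k ((p + 1 : ℕ) : ℤ))
      (ExtBase.L (Omega.sheaf (CohB1.ProjSpace.toSpec (n + 1) k)) (p + 1))).symm)
    exact H23.PullPush.isFinLocFree_of_iso e.symm (Synt29.PnEuler.isFinLocFree_tensorMod
      (lf_inv (KPn.inv_tw k (n + 1) _)) (ExtSh.isFinLocFree_L _ hΩ))
  have hX₃ : FlatMod.IsFinLocFree T.X₃ := by
    obtain ⟨e⟩ := cl_eq_iff.1 (h3.trans ((congrArg (· * _) (cl_tensor (Twist.twistProjSpace (n + 1) k (p : ℤ))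
      (ExtBase.L (Omega.sheaf (CohB1.ProjSpace.toSpec (n + 1) k)) p)).symm).trans
        (cl_tensor _ (Twist.twistProjSpace (n + 1) k 1)).symm))
    exact H23.PullPush.isFinLocFree_of_iso e.symm (Synt29.PnEuler.isFinLocFree_tensorMod
      (Synt29.PnEuler.isFinLocFree_tensorMod (lf_inv (KPn.inv_tw k (n + 1) _)) (ExtSh.isFinLocFree_L _ hΩ))
      (lf_inv (KPn.inv_tw k (n + 1) 1)))
  have hX₂ : FlatMod.IsFinLocFree T.X₂ :=
    H23.PullPush.isFinLocFree_of_iso (e2 ≪≫ eN).symm (Synt29.PnEuler.isFinLocFree_freeMod N)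
  let ι := (LefPen.hypIdeal G).subschemeι
  have hT' := PullVB.shortExact_pullback ι hT (KFlatLib.isFlat_of_isFinLocFree hX₃)
  obtain ⟨V, hV, hVc⟩ := isInvertible_twc G (t - (p + 1))
  have hadd := E_add k hV hT' (SeesawX.isFinLocFree_pullback ι hX₁) (SeesawX.isFinLocFree_pullback ι hX₂)
    (SeesawX.isFinLocFree_pullback ι hX₃)
  have hfree := E_free k hV ((Scheme.Modules.pullback ι).mapIso (e2 ≪≫ eN) ≪≫ KFlatLib.pullFreeIso ι N)
  rw [hVc] at hadd hfree
  have c₁ : twc G (t - (p + 1)) * PicF.cl ((Scheme.Modules.pullback ι).obj T.X₁) =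
      twc G t * PicF.cl (ExtBase.L (OmP G) (p + 1)) := by
    show twc G (t - (p + 1)) * PicF.pullCl ι (PicF.cl T.X₁) = _
    rw [h1, Synt29.PnEuler.hodge, pullCl_mul, ← mul_assoc, cl_L_pullback ι hΩ]
    refine congrArg (· * _) ((twc_add G _ _).trans (congrArg (twc G) ?_))
    push_cast; ring
  have c₃ : twc G (t - (p + 1)) * PicF.cl ((Scheme.Modules.pullback ι).obj T.X₃) =
      twc G t * PicF.cl (ExtBase.L (OmP G) p) := by
    show twc G (t - (p + 1)) * PicF.pullCl ι (PicF.cl T.X₃) = _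
    rw [h3, Synt29.PnEuler.hodge, pullCl_mul, pullCl_mul, cl_L_pullback ι hΩ]
    rw [mul_comm (PicF.pullCl ι (Synt29.PnEuler.tw (n + 1) k (p : ℤ)) * _), ← mul_assoc, ← mul_assoc]
    refine congrArg (· * _) (((congrArg (· * _) (twc_add G _ 1)).trans (twc_add G _ (p : ℤ))).trans (congrArg (twc G) ?_))
    ring
  simp only [ShortComplex.map_X₁, ShortComplex.map_X₂, ShortComplex.map_X₃] at hadd
  rw [c₁, c₃, hfree, hN] at hadd
  exact hadd.symm

include hover in
/-- The exterior powers of the conormal sequence in Euler characteristics. -/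
theorem conormal_rel (p : ℕ) (t : ℤ) :
    E k (twc G t * PicF.cl (ExtBase.L (OmP G) (p + 1))) =
      E k (twc G t * PicF.cl (ExtBase.L (OmZ G) (p + 1))) + E k (twc G (t - a) * PicF.cl (ExtBase.L (OmZ G) p)) := by
  haveI := isProper_hyp G hover
  haveI : IsProper (CohB1.ProjSpace.toSpec (n + 1) k) := PnCoh.Chow.isProper_toSpec.{u} (n + 1) k
  let ι := (LefPen.hypIdeal G).subschemeι
  let f := CohB1.ProjSpace.toSpec (n + 1) k
  haveI : Smooth (ι ≫ f) := SmoothOfRelativeDimension.smooth n _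
  obtain ⟨φ, hφ⟩ := GrpOmega.exists_conormalDiff f ι (Omega.sheaf f) (OmegaSh.dOmega f)
  obtain ⟨c, hc, -⟩ := S9370.result f (ι ≫ f) ι (𝟙 _) (Category.comp_id _) (Omega.sheaf f) (OmegaSh.dOmega f)
    (OmegaUniv.isUniversal_dOmega f) (Omega.sheaf (ι ≫ f)) (OmegaSh.dOmega (ι ≫ f))
    (OmegaUniv.isUniversal_dOmega (ι ≫ f))
  obtain ⟨hepi, him⟩ := S5976.result f ι (Omega.sheaf f) (OmegaSh.dOmega f) (OmegaUniv.isUniversal_dOmega f)
    (Omega.sheaf (ι ≫ f)) (OmegaSh.dOmega (ι ≫ f)) (OmegaUniv.isUniversal_dOmega (ι ≫ f)) φ hφ c hc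
  haveI : Mono φ := S5020.result ι f ((S1488.result (ι ≫ f)).mp inferInstance).2 (Omega.sheaf f)
    (OmegaSh.dOmega f) (OmegaUniv.isUniversal_dOmega f) φ hφ
  have w : φ ≫ c = 0 := by
    rw [← imageSubobject_arrow_comp φ, Category.assoc]
    refine (congrArg (factorThruImageSubobject φ ≫ ·) ?_).trans comp_zero
    have hle : imageSubobject φ ≤ kernelSubobject c := him.le
    rw [← Subobject.ofLE_arrow hle, Category.assoc, kernelSubobject_arrow_comp, comp_zero]
  have hS : (ShortComplex.mk φ c w).ShortExact :=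
    { exact := (ShortComplex.exact_iff_image_eq_kernel _).2 him }
  have hc1 : PicF.cl (Omega.conormal ι) = twc G (-(a : ℤ)) := by
    show PicF.pullCl ι (PicF.cl (ClSub.idealMod ι.ker)) = _
    rw [Scheme.IdealSheafData.ker_subschemeι,
      (cl_eq_iff.2 (PlaneCurveCoh.idealMod_hyp_iso G (form_ne_zero G)) : PicF.cl (ClSub.idealMod _) = _)]
  obtain ⟨W, hW, hWc⟩ := isInvertible_twc G (-(a : ℤ))
  obtain ⟨eW⟩ := cl_eq_iff.1 (hc1.trans hWc.symm)
  obtain ⟨V, hV, hVc⟩ := isInvertible_twc G t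
  have h := E_extension k hS (rank_of_iso eW.symm (InvEnd.isFinLocFreeOfRank_one hW))
    (Synt29.PnEuler.isFinLocFree_of_rank (KExact.DiagCodim.rank_omega (ι ≫ f) n)) hV p
  rw [hVc, hc1, ← mul_assoc, twc_add, ← sub_eq_add_neg] at h
  exact h

theorem E_L_zero_P (t : ℤ) : E k (twc G t * PicF.cl (ExtBase.L (OmP G) 0)) = E k (twc G t) := by
  haveI : IsProper (CohB1.ProjSpace.toSpec (n + 1) k) := PnCoh.Chow.isProper_toSpec.{u} (n + 1) k
  rw [cl_L_zero (SeesawX.isFinLocFree_pullback _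
    (Synt29.PnEuler.isFinLocFree_of_rank (Synt29.PnEuler.rank_omega (n + 1) k))), mul_one]

theorem E_L_zero_Z (t : ℤ) : E k (twc G t * PicF.cl (ExtBase.L (OmZ G) 0)) = E k (twc G t) := by
  haveI : IsProper (CohB1.ProjSpace.toSpec (n + 1) k) := PnCoh.Chow.isProper_toSpec.{u} (n + 1) k
  rw [cl_L_zero (Synt29.PnEuler.isFinLocFree_of_rank (KExact.DiagCodim.rank_omega
    ((LefPen.hypIdeal G).subschemeι ≫ CohB1.ProjSpace.toSpec (n + 1) k) n)), mul_one]

include hover in
theorem E_extPow {p : ℕ} {L : (LefPen.hypIdeal G).subscheme.Modules} (hL : ExtPow.IsExtPow p (OmZ G) L) :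
    E k (twc G 0 * PicF.cl (ExtBase.L (OmZ G) p)) = ∑ q ∈ Finset.range (n + 1),
      (-1 : ℤ) ^ q * (Module.finrank k (Coh.HH (LefPen.hypIdeal G).subscheme L q) : ℤ) := by
  haveI : IsProper (CohB1.ProjSpace.toSpec (n + 1) k) := PnCoh.Chow.isProper_toSpec.{u} (n + 1) k
  have hΩ := Synt29.PnEuler.isFinLocFree_of_rank (KExact.DiagCodim.rank_omega
    ((LefPen.hypIdeal G).subschemeι ≫ CohB1.ProjSpace.toSpec (n + 1) k) n)
  obtain ⟨e⟩ := ExtSh.nonempty_iso_L hΩ hL
  rw [twc_zero, one_mul, (cl_eq_iff.2 ⟨e⟩ : PicF.cl (ExtBase.L (OmZ G) p) = _)]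
  exact E_eq_sum G hover (Synt29.ExtPowPull.isQCoh_of_isExtPow (QCoh.isQCoh_of_isFinLocFree hΩ) hL)

include hover in
theorem E_L_top {p : ℕ} (hp : n < p) (t : ℤ) : E k (twc G t * PicF.cl (ExtBase.L (OmZ G) p)) = 0 := by
  haveI := isProper_hyp G hover
  haveI : IsProper (CohB1.ProjSpace.toSpec (n + 1) k) := PnCoh.Chow.isProper_toSpec.{u} (n + 1) k
  obtain ⟨V, -, hVc⟩ := isInvertible_twc G t
  rw [← hVc]
  exact E_isZero k (KvbModel.isZero_L (KExact.DiagCodim.rank_omega
    ((LefPen.hypIdeal G).subschemeι ≫ CohB1.ProjSpace.toSpec (n + 1) k) n) hp)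

end Groth.Agent.H28.Hirz
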