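import Groth.Agent.Lib.EulerFlatPull
import Groth.Agent.H28.ExtFil
import Groth.Agent.H28.PushLocFree
import Groth.Agent.H28.LineTwist
import Groth.Agent.H28.KvbLam
import Groth.Agent.Lib.CurveTensor
import Groth.Agent.H23.PicMul
import Groth.Agent.KZ.Basic
import Groth.Agent.Synt29.PnEuler

/-!
# Euler characteristics of classes of modules

The Euler characteristic as a function of the isomorphism class, and its behaviour on exterior powers of
extensions with a line bundle as one of the outer terms.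
-/

set_option autoImplicit false
set_option linter.style.haveILetI false
set_option linter.unusedSectionVars false
set_option backward.isDefEq.respectTransparency false
set_option backward.isDefEq.respectTransparency.types false
set_option maxHeartbeats 1000000

universe u

open CategoryTheory CategoryTheory.Limits AlgebraicGeometry TopologicalSpace Opposite

noncomputable section

namespace Groth.Agent.H28.Hirz

open Groth.Agent Groth.Agent.H23.PicMul

variable (k : Type u) [Field k] {X : Scheme.{u}} [X.Over (Spec (CommRingCat.of k))]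

/-- The Euler characteristic of an isomorphism class. -/
def E : PicF.Cl X → ℤ :=
  Quot.lift (fun M => Curv2.euler k X M) fun _ _ h => CurveCohLib.euler_congr (k := k) h.some

theorem E_cl (M : X.Modules) : E k (PicF.cl M) = Curv2.euler k X M := rfl

variable [IsProper (X ↘ Spec (CommRingCat.of k))]

theorem lf_inv {V : X.Modules} (hV : PicF.IsInvertible V) : FlatMod.IsFinLocFree V :=
  Synt29.PnEuler.isFinLocFree_of_rank (InvEnd.isFinLocFreeOfRank_one hV)

theorem euler_add_tensor {V : X.Modules} (hlf : FlatMod.IsFinLocFree V) {A B C : X.Modules} (f : A ⟶ B) (g : B ⟶ C) (w : f ≫ g = 0)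
    (hS : (ShortComplex.mk f g w).ShortExact)
    (h₁ : FlatMod.IsFinLocFree A) (h₂ : FlatMod.IsFinLocFree B) (h₃ : FlatMod.IsFinLocFree C) :
    Curv2.euler k X (((DCoh.tensorBi (X := X)).obj V).obj B) =
      Curv2.euler k X (((DCoh.tensorBi (X := X)).obj V).obj A) +
        Curv2.euler k X (((DCoh.tensorBi (X := X)).obj V).obj C) := by
  have c₁ : Coh.IsCoh ((DCoh.tensorBi.obj V).obj A) := PushLocFree.isCoh_of_isFinLocFree (KFlatLib.isFinLocFree_tensor hlf h₁)
  have c₂ : Coh.IsCoh ((DCoh.tensorBi.obj V).obj B) := PushLocFree.isCoh_of_isFinLocFree (KFlatLib.isFinLocFree_tensor hlf h₂)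
  have c₃ : Coh.IsCoh ((DCoh.tensorBi.obj V).obj C) := PushLocFree.isCoh_of_isFinLocFree (KFlatLib.isFinLocFree_tensor hlf h₃)
  obtain ⟨T, hT, e₁, e₂, e₃⟩ : ∃ T : ShortComplex X.Modules, T.ShortExact ∧
      T.X₁ = ((DCoh.tensorBi (X := X)).obj V).obj A ∧ T.X₂ = ((DCoh.tensorBi (X := X)).obj V).obj B ∧
      T.X₃ = ((DCoh.tensorBi (X := X)).obj V).obj C :=
    ⟨_, CurveTensor.shortExact_tensor hlf f g w hS, rfl, rfl, rfl⟩
  rw [← e₁] at c₁ ⊢
  rw [← e₂] at c₂ ⊢
  rw [← e₃] at c₃ ⊢
  exact CurveCohLib.euler_additive (k := k) hT c₁ c₂ c₃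

/-- Additivity of the twisted Euler characteristic on locally free modules. -/
theorem E_add {V : X.Modules} (hV : PicF.IsInvertible V) {S : ShortComplex X.Modules} (hS : S.ShortExact)
    (h₁ : FlatMod.IsFinLocFree S.X₁) (h₂ : FlatMod.IsFinLocFree S.X₂) (h₃ : FlatMod.IsFinLocFree S.X₃) :
    E k (PicF.cl V * PicF.cl S.X₂) = E k (PicF.cl V * PicF.cl S.X₁) + E k (PicF.cl V * PicF.cl S.X₃) := by
  have hlf := lf_inv hV
  rw [← Synt29.PnEuler.cl_tens, ← Synt29.PnEuler.cl_tens, ← Synt29.PnEuler.cl_tens, E_cl, E_cl, E_cl]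
  exact euler_add_tensor k hlf S.f S.g S.zero hS h₁ h₂ h₃

theorem E_free {V : X.Modules} (hV : PicF.IsInvertible V) {M : X.Modules} {N : ℕ}
    (e : M ≅ FlatMod.freeMod X N) : E k (PicF.cl V * PicF.cl M) = N * E k (PicF.cl V) := by
  have hlf := lf_inv hV
  have h := EulerFlatPull.euler_map_freeMod k ((DCoh.tensorBi (X := X)).obj V)
    (fun A hA => PushLocFree.isCoh_of_isFinLocFree (KFlatLib.isFinLocFree_tensor hlf hA)) N
  have e1 : PicF.cl M = PicF.cl (FlatMod.freeMod X N) := cl_eq_iff.2 ⟨e⟩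
  have h1 : PicF.cl V = PicF.cl (((DCoh.tensorBi (X := X)).obj V).obj (Coh.structureModule X)) :=
    ((Synt29.PnEuler.cl_tens V (Coh.structureModule X)).trans (by rw [← one_def, mul_one])).symm
  calc E k (PicF.cl V * PicF.cl M)
      = E k (PicF.cl (((DCoh.tensorBi (X := X)).obj V).obj (FlatMod.freeMod X N))) := by
        rw [e1, Synt29.PnEuler.cl_tens]
    _ = (N : ℤ) * E k (PicF.cl V) := by rw [h1]; exact h

theorem E_isZero {V M : X.Modules} (hM : IsZero M) : E k (PicF.cl V * PicF.cl M) = 0 := by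
  rw [← Synt29.PnEuler.cl_tens, E_cl]
  have hz : IsZero (((DCoh.tensorBi (X := X)).obj V).obj M) := Functor.map_isZero _ hM
  rw [Euler.euler_eq_sum k _ 0 fun i _ => Euler.subsingleton_HH_of_isZero hz i]
  simp

theorem cl_L_zero {M : X.Modules} (hM : FlatMod.IsFinLocFree M) : PicF.cl (ExtBase.L M 0) = 1 := by
  obtain ⟨e⟩ := ExtSh.nonempty_iso_L hM (KvbLam.isExtPow_zero M)
  rw [(cl_eq_iff.2 ⟨e⟩ : PicF.cl (ExtBase.L M 0) = _), ← one_def]

theorem cl_L_one {M : X.Modules} (hM : FlatMod.IsFinLocFree M) : PicF.cl (ExtBase.L M 1) = PicF.cl M := by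
  obtain ⟨e⟩ := ExtSh.nonempty_iso_L hM (KvbLam.isExtPow_one M)
  exact cl_eq_iff.2 ⟨e⟩

/-- Exterior powers of an extension by a line bundle, in Euler characteristics. -/
theorem E_extension {S : ShortComplex X.Modules} (hS : S.ShortExact)
    (h₁ : FlatMod.IsFinLocFreeOfRank 1 S.X₁) (h₃ : FlatMod.IsFinLocFree S.X₃)
    {V : X.Modules} (hV : PicF.IsInvertible V) (p : ℕ) :
    E k (PicF.cl V * PicF.cl (ExtBase.L S.X₂ (p + 1))) =
      E k (PicF.cl V * PicF.cl (ExtBase.L S.X₃ (p + 1))) +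
        E k (PicF.cl V * (PicF.cl S.X₁ * PicF.cl (ExtBase.L S.X₃ p))) := by
  have h₁' := Synt29.PnEuler.isFinLocFree_of_rank h₁
  have h₂ := ExtFil.isFinLocFree_mid hS h₁' h₃
  obtain ⟨f, hf⟩ := KZ.exists_liftSub (P := fun M : X.Modules => FlatMod.IsFinLocFree M)
    (fun M => E k (PicF.cl V * PicF.cl M)) (fun T hT a b c => E_add k hV hT a b c)
  have hL : ∀ i j, FlatMod.IsFinLocFree (((DCoh.tensorBi (X := X)).obj (ExtBase.L S.X₁ i)).obj (ExtBase.L S.X₃ j)) :=
    fun i j => KFlatLib.isFinLocFree_tensor (ExtSh.isFinLocFree_L i h₁') (ExtSh.isFinLocFree_L j h₃)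
  have key := congrArg f (ExtFil.cl_extension hS h₁' h₃ (p + 1))
  rw [map_sum, hf _ (ExtSh.isFinLocFree_L (p + 1) h₂),
    Finset.sum_congr rfl fun i _ => hf _ (hL i (p + 1 - i))] at key
  rw [key, Finset.sum_range_succ' _ (p + 1), Finset.sum_range_succ' _ p, Finset.sum_eq_zero fun i _ => ?_]
  · simp only [zero_add, Nat.sub_zero, Nat.add_sub_cancel, Synt29.PnEuler.cl_tens, cl_L_zero h₁', cl_L_one h₁',
      one_mul]
    exact add_comm _ _
  · refine E_isZero k ?_
    exact Functor.map_isZero ((DCoh.tensorBi (X := X)).flip.obj _) (KvbModel.isZero_L h₁ (show 1 < i + 1 + 1 by omega))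

end Groth.Agent.H28.Hirz
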