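import Mathlib.RingTheory.PowerSeries.Basic
import Mathlib.RingTheory.PowerSeries.Inverse
import Mathlib.RingTheory.PowerSeries.WellKnown
import Mathlib.RingTheory.Binomial
import Mathlib.Algebra.Polynomial.Basic
import Mathlib.Data.Nat.Choose.Sum
import Mathlib.Tactic.LinearCombination

/-!
# The generating series of the Hirzebruch genera of hypersurfaces

The formal part: from the recursions of the Euler and conormal sequences to the closed formula.
-/

set_option autoImplicit false

open PowerSeries Finset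

noncomputable section

namespace Groth.Agent.H28.Hirz.Series

/-- The variable `y` of the genus. -/
def yv : PowerSeries ℤ := PowerSeries.X

/-- `1 - x`. -/
def w : PowerSeries (PowerSeries ℤ) := 1 - PowerSeries.X

/-- `1 + y (1 - x)`. -/
def φ : PowerSeries (PowerSeries ℤ) := 1 + C yv * w

/-- `∑ z^N [x^N] (φ^(N+1) H)`. -/
def T (H : PowerSeries (PowerSeries ℤ)) : PowerSeries (PowerSeries ℤ) :=
  mk fun N => coeff N (φ ^ (N + 1) * H)

theorem T_add (H H' : PowerSeries (PowerSeries ℤ)) : T (H + H') = T H + T H' := by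
  ext1 N
  simp [T, mul_add]

theorem T_sub (H H' : PowerSeries (PowerSeries ℤ)) : T (H - H') = T H - T H' := by
  ext1 N
  simp [T, mul_sub]

theorem T_C_mul (r : PowerSeries ℤ) (H : PowerSeries (PowerSeries ℤ)) : T (C r * H) = C r * T H := by
  ext1 N
  simp only [T, coeff_mk, coeff_C_mul]
  rw [mul_left_comm, coeff_C_mul]

theorem φ_eq : φ = C (1 + yv) - C yv * X := by
  rw [φ, w, map_add, map_one]
  ring

theorem T_X_mul (H : PowerSeries (PowerSeries ℤ)) : T (X * H) = X * T (φ * H) := by
  ext1 N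
  cases N with
  | zero => simp [T]
  | succ M =>
    simp only [T, coeff_mk, coeff_succ_X_mul]
    rw [mul_left_comm, coeff_succ_X_mul, ← mul_assoc, ← pow_succ]

theorem shift_X (H : PowerSeries (PowerSeries ℤ)) :
    (1 + C yv * X) * T (X * H) = X * C (1 + yv) * T H := by
  have h1 := T_X_mul H
  rw [φ_eq, sub_mul, T_sub, T_C_mul, mul_assoc, T_C_mul] at h1
  linear_combination h1

theorem shift_w (H : PowerSeries (PowerSeries ℤ)) : (1 + C yv * X) * T (w * H) = (1 - X) * T H := by
  have h := shift_X H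
  rw [map_add, map_one] at h
  rw [w, sub_mul, one_mul, T_sub, mul_sub, h]
  ring

theorem shift_w_pow (j : ℕ) (H : PowerSeries (PowerSeries ℤ)) :
    (1 + C yv * X) ^ j * T (w ^ j * H) = (1 - X) ^ j * T H := by
  induction j with
  | zero => simp
  | succ j ih =>
    rw [pow_succ' w, mul_assoc, pow_succ (1 + C yv * X), mul_assoc, shift_w, ← mul_assoc,
      mul_comm ((1 + C yv * X) ^ j) (1 - X), mul_assoc, ih]
    ring

theorem coeff_lin_pow {R : Type*} [CommRing R] (r s : R) (M j : ℕ) :
    coeff j ((C r + C s * X) ^ M) = (M.choose j : R) * r ^ (M - j) * s ^ j := by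
  rw [add_comm, add_pow, map_sum, Finset.sum_eq_single j]
  · rw [mul_comm ((C s * X) ^ j), mul_pow, ← map_pow, ← map_pow, ← map_natCast (C : R →+* PowerSeries R),
      mul_assoc, mul_assoc, coeff_C_mul, ← mul_assoc, mul_comm ((C (s ^ j)) * X ^ j), ← mul_assoc, ← map_mul,
      coeff_C_mul, coeff_X_pow, if_pos rfl]
    ring
  · intro i _ hij
    rw [mul_pow, ← map_pow, ← map_pow, ← map_natCast (C : R →+* PowerSeries R), mul_assoc, mul_assoc, coeff_C_mul,
      mul_comm (X ^ i), ← map_mul, coeff_C_mul, coeff_X_pow, if_neg (Ne.symm hij), mul_zero, mul_zero]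
  · intro h
    rw [Nat.choose_eq_zero_of_lt (by simpa using h)]
    simp

theorem T_one : (1 + C yv * X) ^ 2 * T 1 = C (1 + yv) := by
  have hT : T 1 = mk fun N => ((N + 1 : ℕ) : PowerSeries ℤ) * (1 + yv) * (-yv) ^ N := by
    ext1 N
    rw [T, coeff_mk, coeff_mk, mul_one, φ_eq, sub_eq_add_neg, ← neg_mul, ← map_neg, coeff_lin_pow,
      Nat.choose_succ_self_right, Nat.add_sub_cancel_left, pow_one]
  set U : PowerSeries (PowerSeries ℤ) := mk fun N => (1 + yv) * (-yv) ^ N with hU
  have h1 : (1 + C yv * X) * T 1 = U := by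
    ext1 N
    rw [add_mul, one_mul, map_add, mul_assoc, coeff_C_mul, hT, hU]
    cases N with
    | zero => simp
    | succ M =>
      rw [coeff_succ_X_mul, coeff_mk, coeff_mk, coeff_mk]
      push_cast
      ring
  have h2 : (1 + C yv * X) * U = C (1 + yv) := by
    ext1 N
    rw [add_mul, one_mul, map_add, mul_assoc, coeff_C_mul, hU]
    cases N with
    | zero => simp
    | succ M =>
      rw [coeff_succ_X_mul, coeff_mk, coeff_mk, coeff_C, if_neg M.succ_ne_zero]
      ring
  rw [pow_two, mul_assoc, h1, h2]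

theorem T_w_pow_one (a : ℕ) : (1 + C yv * X) ^ (a + 2) * T (w ^ a) = (1 - X) ^ a * C (1 + yv) := by
  have h := shift_w_pow a 1
  rw [mul_one] at h
  calc (1 + C yv * X) ^ (a + 2) * T (w ^ a) = (1 + C yv * X) ^ 2 * ((1 + C yv * X) ^ a * T (w ^ a)) := by ring
    _ = (1 + C yv * X) ^ 2 * ((1 - X) ^ a * T 1) := by rw [h]
    _ = (1 - X) ^ a * ((1 + C yv * X) ^ 2 * T 1) := by ring
    _ = _ := by rw [T_one]

theorem isUnit_w : IsUnit w := by
  rw [isUnit_iff_constantCoeff, w, map_sub, map_one, constantCoeff_X, sub_zero]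
  exact isUnit_one

theorem isUnit_one_add_y : IsUnit (1 + yv) := by
  rw [isUnit_iff_constantCoeff, yv, map_add, map_one, constantCoeff_X, add_zero]
  exact isUnit_one

theorem isUnit_den (a : ℕ) : IsUnit (1 + C yv * w ^ a) := by
  rw [isUnit_iff_constantCoeff, map_add, map_one, map_mul, constantCoeff_C, map_pow, w, map_sub, map_one,
    constantCoeff_X, sub_zero, one_pow, mul_one]
  exact isUnit_one_add_y

/-- `1 / (1 - x)`. -/
def winv : PowerSeries (PowerSeries ℤ) := Ring.inverse w

theorem w_mul_winv : w * winv = 1 := Ring.mul_inverse_cancel _ isUnit_w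

/-- `(1 - (1-x)^a) / ((1-x) (1 + y (1-x)^a))`. -/
def Hs (a : ℕ) : PowerSeries (PowerSeries ℤ) :=
  winv * (1 - w ^ a) * Ring.inverse (1 + C yv * w ^ a)

theorem Hs_den (a : ℕ) : (1 + C yv * w ^ a) * Hs a = winv * (1 - w ^ a) := by
  rw [Hs, mul_left_comm, Ring.mul_inverse_cancel _ (isUnit_den a), mul_one]

theorem main_eq (a : ℕ) :
    (1 - X) * ((1 + C yv * X) ^ a + C yv * (1 - X) ^ a) * (1 + C yv * X) * T (Hs a) =
      C (1 + yv) * ((1 + C yv * X) ^ a - (1 - X) ^ a) := by
  have e : w * Hs a + C yv * (w ^ (a + 1) * Hs a) = 1 - w ^ a := by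
    calc w * Hs a + C yv * (w ^ (a + 1) * Hs a) = w * ((1 + C yv * w ^ a) * Hs a) := by ring
      _ = w * winv * (1 - w ^ a) := by rw [Hs_den, mul_assoc]
      _ = _ := by rw [w_mul_winv, one_mul]
  have e' := congrArg (fun H => (1 + C yv * X) ^ (a + 2) * T H) e
  simp only [T_add, T_sub, T_C_mul, mul_add, mul_sub] at e'
  have f1 := shift_w (Hs a)
  have f2 := shift_w_pow (a + 1) (Hs a)
  have f3 := T_one
  have f4 := T_w_pow_one a
  linear_combination e' - (1 + C yv * X) ^ (a + 1) * f1 - C yv * (1 + C yv * X) * f2 + (1 + C yv * X) ^ a * f3 - f4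

theorem coeff_winv (N : ℕ) : ∀ m : ℕ,
    coeff N (winv * w ^ m) = ((Ring.choose ((N : ℤ) - m) N : ℤ) : PowerSeries ℤ) := by
  induction N with
  | zero =>
    intro m
    rw [coeff_zero_eq_constantCoeff_apply, map_mul, map_pow, Ring.choose_zero_right, Int.cast_one]
    have h := congrArg constantCoeff w_mul_winv
    have hw : constantCoeff w = 1 := by rw [w, map_sub, map_one, constantCoeff_X, sub_zero]
    rw [map_mul, hw, one_mul, map_one] at h
    rw [h, hw, one_pow, mul_one]
  | succ N ih =>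
    intro m
    induction m with
    | zero =>
      have hw : w = 1 - X := rfl
      have h : winv = 1 + X * winv := by linear_combination w_mul_winv - winv * hw
      rw [pow_zero, mul_one, h, map_add, coeff_one, if_neg N.succ_ne_zero, zero_add, coeff_succ_X_mul]
      have := ih 0
      rw [pow_zero, mul_one] at this
      rw [this]
      simp only [Nat.cast_zero, sub_zero, Ring.choose_natCast, Nat.choose_self, Nat.cast_one]
    | succ m ihm =>
      rw [show winv * w ^ (m + 1) = winv * w ^ m - X * (winv * w ^ m) by rw [pow_succ, w]; ring, map_sub,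
        coeff_succ_X_mul, ihm, ih m, ← Int.cast_sub]
      congr 1
      have h := Ring.choose_succ_succ ((N : ℤ) - m) N
      push_cast
      rw [show (N : ℤ) + 1 - m = (N : ℤ) - m + 1 by ring, show (N : ℤ) + 1 - (m + 1) = (N : ℤ) - m by ring, h]
      ring

/-- The values `χ(O_Z(t))` for a hypersurface of degree `a` in `P^N`. -/
def hval (a N : ℕ) (t : ℤ) : ℤ := Ring.choose (t + N) N - Ring.choose (t - a + N) N

theorem coeff_hval (a N m : ℕ) :
    coeff N (w ^ m * (winv * (1 - w ^ a))) = ((hval a N (-(m : ℤ)) : ℤ) : PowerSeries ℤ) := by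
  rw [show w ^ m * (winv * (1 - w ^ a)) = winv * w ^ m - winv * w ^ (m + a) by ring, map_sub, coeff_winv,
    coeff_winv, ← Int.cast_sub, hval]
  congr 2
  · congr 1; ring
  · congr 1; push_cast; ring

theorem one_add_y_Aser (a N m : ℕ) (A : ℕ → ℤ → ℤ) (hA0 : ∀ t, A 0 t = hval a N t)
    (hA : ∀ p t, A (p + 1) t + A p t = ((N + 1).choose (p + 1) : ℤ) * hval a N (t - (p + 1))) :
    (1 + yv) * mk (fun p => A p (-(m : ℤ))) = coeff N (φ ^ (N + 1) * (w ^ m * (winv * (1 - w ^ a)))) := by
  have hR : coeff N (φ ^ (N + 1) * (w ^ m * (winv * (1 - w ^ a)))) =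
      mk (fun q => ((N + 1).choose q : ℤ) * hval a N (-(m : ℤ) - q)) := by
    rw [φ, add_comm (1 : PowerSeries (PowerSeries ℤ)), add_pow, Finset.sum_mul, map_sum]
    have hterm : ∀ q ∈ Finset.range (N + 1 + 1),
        coeff N ((C yv * w) ^ q * 1 ^ (N + 1 - q) * ((N + 1).choose q : PowerSeries (PowerSeries ℤ)) *
          (w ^ m * (winv * (1 - w ^ a)))) =
        yv ^ q * ((((N + 1).choose q : ℤ) * hval a N (-(m : ℤ) - q) : ℤ) : PowerSeries ℤ) := by
      intro q _
      rw [show (C yv * w) ^ q * 1 ^ (N + 1 - q) * ((N + 1).choose q : PowerSeries (PowerSeries ℤ)) *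
          (w ^ m * (winv * (1 - w ^ a))) =
          C (yv ^ q * ((N + 1).choose q : PowerSeries ℤ)) * (w ^ (m + q) * (winv * (1 - w ^ a))) by
        rw [map_mul, map_pow, map_natCast, pow_add]; ring, coeff_C_mul, coeff_hval, Int.cast_mul, Int.cast_natCast,
        mul_assoc]
      rw [show -(((m + q : ℕ)) : ℤ) = -(m : ℤ) - q by push_cast; ring]
    rw [Finset.sum_congr rfl hterm]
    ext p
    rw [map_sum, coeff_mk]
    simp only [← map_intCast (C : ℤ →+* PowerSeries ℤ), coeff_mul_C, yv, coeff_X_pow, ite_mul, one_mul, zero_mul,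
      Finset.sum_ite_eq, Finset.mem_range, Int.cast_id]
    split_ifs with h
    · rfl
    · rw [Nat.choose_eq_zero_of_lt (by omega), Nat.cast_zero, zero_mul]
  rw [hR, add_mul, one_mul, yv]
  ext p
  cases p with
  | zero => simp [hA0]
  | succ p =>
    rw [map_add, coeff_succ_X_mul, coeff_mk, coeff_mk, coeff_mk, hA]
    push_cast
    rfl

theorem eq_zero_of_y_recursion {a : ℕ} (E : ℕ → PowerSeries ℤ) (h : ∀ m, E m + yv * E (m + a) = 0) :
    ∀ m, E m = 0 := by
  have key : ∀ j m, coeff j (E m) = 0 := by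
    intro j
    induction j with
    | zero =>
      intro m
      have := congrArg (coeff 0) (h m)
      simpa [yv] using this
    | succ j ih =>
      intro m
      have := congrArg (coeff (j + 1)) (h m)
      rwa [map_add, yv, coeff_succ_X_mul, ih, add_zero, map_zero] at this
  exact fun m => PowerSeries.ext fun j => by rw [key j m, map_zero]

theorem one_add_y_Bser (a N : ℕ) (A B : ℕ → ℤ → ℤ) (hA0 : ∀ t, A 0 t = hval a N t)
    (hA : ∀ p t, A (p + 1) t + A p t = ((N + 1).choose (p + 1) : ℤ) * hval a N (t - (p + 1)))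
    (hB0 : ∀ t, B 0 t = hval a N t) (hB : ∀ p t, A (p + 1) t = B (p + 1) t + B p (t - a)) :
    (1 + yv) * mk (fun p => B p 0) = coeff N (φ ^ (N + 1) * Hs a) := by
  have hAB : ∀ m : ℕ, mk (fun p => A p (-(m : ℤ))) =
      mk (fun p => B p (-(m : ℤ))) + yv * mk (fun p => B p (-((m + a : ℕ) : ℤ))) := by
    intro m
    ext p
    cases p with
    | zero => simp [yv, hA0, hB0]
    | succ p =>
      rw [map_add, yv, coeff_succ_X_mul, coeff_mk, coeff_mk, coeff_mk, hB,
        show -((m + a : ℕ) : ℤ) = -(m : ℤ) - a by push_cast; ring]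
  have h := eq_zero_of_y_recursion (a := a)
    (fun m => (1 + yv) * mk (fun p => B p (-(m : ℤ))) - coeff N (φ ^ (N + 1) * (w ^ m * Hs a))) ?_ 0
  · simpa [sub_eq_zero] using h
  intro m
  have h1 := one_add_y_Aser a N m A hA0 hA
  rw [hAB m, ← Hs_den] at h1
  have h2 : coeff N (φ ^ (N + 1) * (w ^ m * ((1 + C yv * w ^ a) * Hs a))) =
      coeff N (φ ^ (N + 1) * (w ^ m * Hs a)) + yv * coeff N (φ ^ (N + 1) * (w ^ (m + a) * Hs a)) := by
    rw [← coeff_C_mul, ← map_add]
    congr 1
    ring
  rw [h2] at h1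
  linear_combination h1

/-- The generating series. -/
theorem generating_series (a : ℕ) (A B : ℕ → ℕ → ℤ → ℤ) (hA0 : ∀ n t, A n 0 t = hval a (n + 1) t)
    (hA : ∀ n p t, A n (p + 1) t + A n p t = ((n + 2).choose (p + 1) : ℤ) * hval a (n + 1) (t - (p + 1)))
    (hB0 : ∀ n t, B n 0 t = hval a (n + 1) t)
    (hB : ∀ n p t, A n (p + 1) t = B n (p + 1) t + B n p (t - a))
    (hBv : ∀ n p, n < p → B n p 0 = 0)
    (χ : ℕ → Polynomial ℤ) (hχ : ∀ n, χ n = ∑ p ∈ Finset.range (n + 1), Polynomial.C (B n p 0) * Polynomial.X ^ p)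
    (y : PowerSeries (Polynomial ℤ)) (hy : y = PowerSeries.C (Polynomial.X : Polynomial ℤ)) :
    (1 - PowerSeries.X) * (1 + y * PowerSeries.X) *
        ((1 + y * PowerSeries.X) ^ a + y * (1 - PowerSeries.X) ^ a) *
        (PowerSeries.X * PowerSeries.mk χ) =
      (1 + y * PowerSeries.X) ^ a - (1 - PowerSeries.X) ^ a := by
  let ι : Polynomial ℤ →+* PowerSeries ℤ := Polynomial.coeToPowerSeries.ringHom
  have hι : Function.Injective ι := fun p q h => Polynomial.coe_inj.1 h
  refine PowerSeries.map_injective ι hι ?_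
  have hy' : PowerSeries.map ι y = C yv := by
    rw [hy, PowerSeries.map_C]
    exact congrArg C Polynomial.coe_X
  simp only [map_mul, map_sub, map_add, map_pow, map_one, PowerSeries.map_X, hy']
  have hχ' : ∀ n, ι (χ n) = mk fun p => B n p 0 := fun n => by
    ext p
    show coeff p ((χ n : Polynomial ℤ) : PowerSeries ℤ) = _
    rw [Polynomial.coeff_coe, hχ, Polynomial.finsetSum_coeff, coeff_mk]
    simp only [Polynomial.coeff_C_mul, Polynomial.coeff_X_pow, mul_ite, mul_one, mul_zero, Finset.sum_ite_eq,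
      Finset.mem_range]
    split_ifs with h
    · rfl
    · exact (hBv n p (by omega)).symm
  have hT : C (1 + yv) * (X * PowerSeries.map ι (mk χ)) = T (Hs a) := by
    ext1 N
    cases N with
    | zero =>
      rw [coeff_C_mul, coeff_zero_X_mul, mul_zero, T, coeff_mk, coeff_zero_eq_constantCoeff_apply, map_mul, Hs,
        map_mul, map_mul, map_sub, map_one, map_pow, map_pow, show constantCoeff w = 1 by rw [w, map_sub, map_one,
        constantCoeff_X, sub_zero], one_pow, sub_self, mul_zero, zero_mul, mul_zero]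
    | succ n =>
      rw [coeff_C_mul, coeff_succ_X_mul, PowerSeries.coeff_map, coeff_mk, hχ' n, T, coeff_mk]
      exact one_add_y_Bser a (n + 1) (A n) (B n) (hA0 n) (hA n) (hB0 n) (hB n)
  have hu : IsUnit (C (1 + yv) : PowerSeries (PowerSeries ℤ)) := isUnit_one_add_y.map C
  refine hu.mul_left_cancel ?_
  have h := main_eq a
  rw [← hT] at h
  linear_combination h

end Groth.Agent.H28.Hirz.Series
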